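import Cfsg.Agent.Lib.ClassSize.Coprime
import Cfsg.Agent.Lib.Zass.CTSimple

/-!
# Class sizes: involutions of maximal class size have abelian centralizers
-/

set_option autoImplicit false
set_option linter.unusedSectionVars false
set_option linter.style.haveILetI false

namespace Cfsg.Agent.Lib.Rank3.Basic

open Subgroup Cfsg.Agent.Lib.ClassSize.Basic Cfsg.Agent.Lib.ClassSize.Coprime

universe u

variable {G : Type u} [Group G]

/-- A nonabelian 2-group has a non-central element whose class is central modulo the centre and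
whose square is central. -/
theorem exists_second_center {H : Type*} [Group H] [Finite H] (hp : IsPGroup 2 H)
    (hna : ¬ ∀ a b : H, a * b = b * a) :
    ∃ g : H, g ∉ center H ∧ g ^ 2 ∈ center H ∧ ∀ n : H, n * g * n⁻¹ * g⁻¹ ∈ center H := by
  classical
  haveI : Fact (Nat.Prime 2) := ⟨Nat.prime_two⟩
  let Q := H ⧸ center H
  have hQ : IsPGroup 2 Q := hp.to_quotient (center H)
  haveI : Nontrivial Q := by
    by_contra hnt
    rw [not_nontrivial_iff_subsingleton] at hnt
    apply hna
    intro a b
    have h1 : ((a : H) : Q) = 1 := Subsingleton.elim _ _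
    have h2 : a ∈ center H := (QuotientGroup.eq_one_iff a).1 h1
    exact (Subgroup.mem_center_iff.1 h2 b).symm
  haveI : Nontrivial (center Q) := hQ.center_nontrivial
  obtain ⟨c, hc⟩ := exists_ne (1 : center Q)
  have hc' : (c : Q) ≠ 1 := fun h => hc (Subtype.ext h)
  obtain ⟨k, hk⟩ := (IsPGroup.iff_orderOf.1 hQ) (c : Q)
  have hk0 : k ≠ 0 := by
    rintro rfl
    rw [pow_zero, orderOf_eq_one_iff] at hk
    exact hc' hk
  obtain ⟨j, rfl⟩ := Nat.exists_eq_succ_of_ne_zero hk0
  set d : Q := (c : Q) ^ (2 ^ j) with hd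
  have hd1 : d ≠ 1 := by
    rw [hd]
    intro h
    have := orderOf_dvd_of_pow_eq_one h
    rw [hk] at this
    have h2 := (Nat.pow_dvd_pow_iff_le_right (by norm_num : 1 < 2)).1 this
    omega
  have hd2 : d ^ 2 = 1 := by
    rw [hd, ← pow_mul, ← pow_succ, ← hk]
    exact pow_orderOf_eq_one _
  have hdc : d ∈ center Q := (center Q).pow_mem c.2 _
  obtain ⟨g, hg⟩ := QuotientGroup.mk_surjective d
  refine ⟨g, ?_, ?_, ?_⟩
  · intro h
    apply hd1
    rw [← hg]
    exact (QuotientGroup.eq_one_iff g).2 h
  · apply (QuotientGroup.eq_one_iff _).1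
    rw [QuotientGroup.mk_pow, hg, hd2]
  · intro n
    apply (QuotientGroup.eq_one_iff _).1
    rw [QuotientGroup.mk_mul, QuotientGroup.mk_mul, QuotientGroup.mk_mul, QuotientGroup.mk_inv,
      QuotientGroup.mk_inv, hg, Subgroup.mem_center_iff.1 hdc (n : Q)]
    group

/-- A 2-group whose elements with nontrivial square have the centralizers of their squares is
abelian. -/
theorem abelian_of_cent_sq {H : Type*} [Group H] [Finite H] (hp : IsPGroup 2 H)
    (h : ∀ y : H, y ^ 2 ≠ 1 → ∀ a : H, a * y ^ 2 = y ^ 2 * a → a * y = y * a) :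
    ∀ a b : H, a * b = b * a := by
  by_contra hna
  obtain ⟨g, hg, hg2, hgn⟩ := exists_second_center hp hna
  -- `g` is an involution
  have hgsq : g ^ 2 = 1 := by
    by_contra hne
    apply hg
    rw [Subgroup.mem_center_iff]
    intro a
    exact h g hne a ((Subgroup.mem_center_iff.1 hg2 a))
  -- a non-commuting partner
  obtain ⟨n, hn⟩ : ∃ n : H, n * g ≠ g * n := by
    by_contra hall
    push Not at hall
    exact hg (Subgroup.mem_center_iff.2 hall)
  set c : H := n * g * n⁻¹ * g⁻¹ with hc
  have hcZ : c ∈ center H := hgn n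
  have hc1 : c ≠ 1 := by
    intro h1
    apply hn
    rw [hc] at h1
    have : n * g * n⁻¹ = g := by
      calc n * g * n⁻¹ = n * g * n⁻¹ * g⁻¹ * g := by group
        _ = g := by rw [h1, one_mul]
    calc n * g = n * g * n⁻¹ * n := by group
      _ = g * n := by rw [this]
  have hcomm : ∀ a : H, c * a = a * c := fun a => (Subgroup.mem_center_iff.1 hcZ a).symm
  have hngn : n * g * n⁻¹ = c * g := by rw [hc]; group
  have hc2 : c ^ 2 = 1 := by
    have h1 : (n * g * n⁻¹) ^ 2 = 1 := by
      rw [conj_pow, hgsq]
      simp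
    rw [hngn, sq, show c * g * (c * g) = c * c * (g * g) by
      calc c * g * (c * g) = c * (g * c) * g := by group
        _ = c * (c * g) * g := by rw [(hcomm g).symm]
        _ = c * c * (g * g) := by group] at h1
    have h2 : g * g = 1 := by rw [← sq, hgsq]
    rw [h2, mul_one] at h1
    rw [sq, h1]
  have hgcomm : g * n ^ 2 = n ^ 2 * g := by
    have h3 : n ^ 2 * g * (n ^ 2)⁻¹ = g := by
      calc n ^ 2 * g * (n ^ 2)⁻¹ = n * (n * g * n⁻¹) * n⁻¹ := by rw [sq]; group
        _ = n * (c * g) * n⁻¹ := by rw [hngn]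
        _ = c * (n * g * n⁻¹) := by
            rw [show n * (c * g) * n⁻¹ = (n * c) * g * n⁻¹ by group, ← hcomm n]
            group
        _ = c * (c * g) := by rw [hngn]
        _ = c ^ 2 * g := by rw [sq]; group
        _ = g := by rw [hc2, one_mul]
    calc g * n ^ 2 = n ^ 2 * g * (n ^ 2)⁻¹ * n ^ 2 := by rw [h3]
      _ = n ^ 2 * g := by rw [sq]; group
  have hn2 : n ^ 2 = 1 := by
    by_contra hne
    exact hn (h n hne g hgcomm).symm
  have hninv : n⁻¹ = n := by
    calc n⁻¹ = n⁻¹ * n ^ 2 := by rw [hn2, mul_one]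
      _ = n := by rw [sq]; group
  have hsq : (g * n) ^ 2 = c := by
    have h4 : n * g * n = c * g := by
      have := hngn
      rwa [hninv] at this
    have h2 : g * g = 1 := by rw [← sq, hgsq]
    calc (g * n) ^ 2 = g * (n * g * n) := by rw [sq]; group
      _ = g * (c * g) := by rw [h4]
      _ = (g * c) * g := by group
      _ = (c * g) * g := by rw [hcomm g]
      _ = c * (g * g) := by group
      _ = c := by rw [h2, mul_one]
  have h5 : n * (g * n) = (g * n) * n := by
    apply h (g * n) (by rw [hsq]; exact hc1) n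
    rw [hsq]
    exact (hcomm n).symm
  apply hn
  have h6 : n * g * n = g * n * n := by rw [mul_assoc, h5]
  exact mul_right_cancel h6

/-- A finite group with abelian Sylow 2-subgroups in which the elements of odd order are central
is abelian. -/
theorem comm_of_sylow_abelian {N : Type*} [Group N] [Finite N]
    (hS : ∀ T : Sylow 2 N, ∀ a ∈ (T : Subgroup N), ∀ b ∈ (T : Subgroup N), a * b = b * a)
    (hodd : ∀ y : N, Odd (orderOf y) → y ∈ center N) : ∀ a b : N, a * b = b * a := by
  classical
  haveI : Fact (Nat.Prime 2) := ⟨Nat.prime_two⟩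
  obtain ⟨T⟩ : Nonempty (Sylow 2 N) := inferInstance
  -- the central quotient is a 2-group
  have hQ : IsPGroup 2 (N ⧸ center N) := by
    intro q
    obtain ⟨g, rfl⟩ := QuotientGroup.mk_surjective q
    obtain ⟨k, m, hm, hdec⟩ := Nat.exists_eq_pow_mul_and_not_dvd (orderOf_pos g).ne' 2 (by norm_num)
    refine ⟨k, ?_⟩
    rw [← QuotientGroup.mk_pow]
    apply (QuotientGroup.eq_one_iff _).2
    apply hodd
    have h1 : orderOf (g ^ (2 ^ k)) = m := by
      rw [orderOf_pow' _ (by positivity), hdec, Nat.gcd_eq_right (dvd_mul_right _ _)]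
      exact Nat.mul_div_cancel_left _ (by positivity)
    rw [h1]
    exact Nat.odd_iff.2 (by omega)
  set K : Subgroup N := (T : Subgroup N) ⊔ center N with hK
  have hKtop : K = ⊤ := by
    have h1 : K.index ∣ (center N).index :=
      Subgroup.index_dvd_of_le le_sup_right
    have h2 : K.index ∣ (T : Subgroup N).index :=
      Subgroup.index_dvd_of_le le_sup_left
    obtain ⟨k, hk⟩ := IsPGroup.iff_card.1 hQ
    have hidx : (center N).index = 2 ^ k := by
      rw [Subgroup.index, hk]
    rw [hidx] at h1
    obtain ⟨j, -, hj⟩ := (Nat.dvd_prime_pow Nat.prime_two).1 h1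
    have h3 : ¬ 2 ∣ (T : Subgroup N).index := T.not_dvd_index
    by_cases hj0 : j = 0
    · subst hj0
      rw [pow_zero] at hj
      exact Subgroup.index_eq_one.1 hj
    · exfalso
      apply h3
      rw [hj] at h2
      exact (dvd_pow_self 2 hj0).trans h2
  have hTc : ∀ t ∈ (T : Subgroup N), t ∈ center N := by
    intro t ht
    have h1 : K ≤ centralizer ({t} : Set N) := by
      rw [hK, sup_le_iff]
      constructor
      · intro a ha
        rw [mem_centralizer_singleton_iff]
        exact hS T a ha t ht
      · intro a ha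
        rw [mem_centralizer_singleton_iff]
        exact (Subgroup.mem_center_iff.1 ha t).symm
    rw [Subgroup.mem_center_iff]
    intro g
    have h2 : g ∈ centralizer ({t} : Set N) := h1 (by rw [hKtop]; trivial)
    rw [mem_centralizer_singleton_iff] at h2
    exact h2
  have hZtop : center N = ⊤ := by
    rw [hK, sup_eq_right.2 (fun t ht => hTc t ht)] at hKtop
    exact hKtop
  intro a b
  have ha : a ∈ center N := by rw [hZtop]; trivial
  exact (Subgroup.mem_center_iff.1 ha b).symm

/-- A nontrivial element of 2-power order has an involution among its powers. -/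
theorem exists_invol_pow [Finite G] {y : G} (hy : y ≠ 1) (h : ∃ k : ℕ, orderOf y = 2 ^ k) :
    ∃ n : ℕ, orderOf (y ^ n) = 2 := by
  obtain ⟨k, hk⟩ := h
  have h2 : 2 ∣ orderOf y := by
    rw [hk]
    apply dvd_pow_self
    rintro rfl
    rw [pow_zero, orderOf_eq_one_iff] at hk
    exact hy hk
  exact ⟨orderOf y / 2, orderOf_pow_orderOf_div (orderOf_pos y).ne' h2⟩

/-- If the class size of every involution is maximal for divisibility, then every 2-subgroup is
abelian. -/
theorem two_subgroup_abelian [Finite G]
    (hmax : ∀ t : G, orderOf t = 2 → ∀ y : G, y ≠ 1 → cs t ∣ cs y → cs y = cs t)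
    (P : Subgroup G) (hP : IsPGroup 2 P) : ∀ a ∈ P, ∀ b ∈ P, a * b = b * a := by
  have key := abelian_of_cent_sq hP ?_
  · intro a ha b hb
    have := key ⟨a, ha⟩ ⟨b, hb⟩
    exact congrArg Subtype.val this
  · intro y hy a ha
    apply Subtype.ext
    have hy2 : (y : G) ^ 2 ≠ 1 := by
      intro h
      apply hy
      apply Subtype.ext
      simpa using h
    have hy1 : (y : G) ≠ 1 := by
      intro h
      apply hy2
      rw [h, one_pow]
    have ha' : (a : G) * (y : G) ^ 2 = (y : G) ^ 2 * (a : G) := by
      have := congrArg Subtype.val ha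
      simpa using this
    obtain ⟨k, hk⟩ := (IsPGroup.iff_orderOf.1 hP) (y ^ 2)
    have hk' : orderOf ((y : G) ^ 2) = 2 ^ k := by
      rw [← hk, ← Subgroup.orderOf_coe]
      simp
    obtain ⟨n, hn⟩ := exists_invol_pow hy2 ⟨k, hk'⟩
    have h1 : cs (((y : G) ^ 2) ^ n) ∣ cs ((y : G) ^ 2) := cs_dvd_of_pow _ n
    have h2 : cs ((y : G) ^ 2) ∣ cs (y : G) := cs_dvd_of_pow _ 2
    have h3 := hmax _ hn _ hy2 h1
    have h4 := hmax _ hn _ hy1 (h1.trans h2)
    have h5 : cent (y : G) = cent ((y : G) ^ 2) :=
      eq_of_le_of_index_eq (cent_le_of_pow _ 2) (by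
        show cs (y : G) = cs ((y : G) ^ 2)
        rw [h3, h4])
    have h6 : (a : G) ∈ cent ((y : G) ^ 2) := mem_cent_iff.2 ha'.symm
    rw [← h5] at h6
    have := mem_cent_iff.1 h6
    simpa using this.symm

/-- If the class size of every involution is maximal for divisibility, then the centralizer of an
involution is abelian. -/
theorem inv_cent_abelian [Finite G]
    (hmax : ∀ t : G, orderOf t = 2 → ∀ y : G, y ≠ 1 → cs t ∣ cs y → cs y = cs t)
    (t : G) (ht : orderOf t = 2) : IsMulCommutative ↥(centralizer ({t} : Set G)) := by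
  haveI : Fact (Nat.Prime 2) := ⟨Nat.prime_two⟩
  have hcomm : ∀ a b : ↥(centralizer ({t} : Set G)), a * b = b * a := by
    apply comm_of_sylow_abelian
    · intro T a ha b hb
      have hT : IsPGroup 2 ((T : Subgroup ↥(centralizer ({t} : Set G))).map (centralizer ({t} : Set G)).subtype) :=
        T.isPGroup'.map _
      have := two_subgroup_abelian hmax _ hT (a : G) (Subgroup.mem_map_of_mem _ ha) (b : G)
        (Subgroup.mem_map_of_mem _ hb)
      exact Subtype.ext this
    · intro y hy
      rw [Subgroup.mem_center_iff]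
      intro a
      by_cases hy1 : (y : G) = 1
      · have : y = 1 := Subtype.ext hy1
        rw [this, one_mul, mul_one]
      have hoy : Odd (orderOf (y : G)) := by
        rwa [← Subgroup.orderOf_coe] at hy
      have hcomm : Commute t (y : G) := mem_cent_iff.1 y.2
      have hcop : Nat.Coprime (orderOf t) (orderOf (y : G)) := by
        rw [ht]
        exact Nat.coprime_two_left.2 hoy
      have hty : t * (y : G) ≠ 1 := by
        intro h
        have h1 : (y : G) = t⁻¹ := (eq_inv_of_mul_eq_one_right h)
        rw [h1, orderOf_inv, ht] at hoy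
        exact absurd hoy (by decide)
      have h1 := cent_mul_le_left hcomm hcop
      have h2 := cent_mul_le_right hcomm hcop
      have h3 : cs t ∣ cs (t * (y : G)) := Subgroup.index_dvd_of_le h1
      have h4 := hmax t ht _ hty h3
      have h5 : cent (t * (y : G)) = cent t := eq_of_le_of_index_eq h1 h4
      have h6 : (a : G) ∈ cent (y : G) := by
        apply h2
        rw [h5]
        exact a.2
      apply Subtype.ext
      exact (mem_cent_iff.1 h6).symm
  exact ⟨⟨hcomm⟩⟩

open Cfsg.Agent.Lib.Zass.EvenBasic Cfsg.Agent.Lib.Zass.EvenFT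
  Cfsg.Agent.Lib.Zass.EvenElem Cfsg.Agent.Lib.PSL2.Basic Cfsg.Agent.Lib.Zass.EvenSub
open scoped MatrixGroups

/-- A nonabelian finite simple group whose involutions have abelian centralizers is `PSL₂(2ᶠ)`. -/
theorem psl_of_inv_cent_abelian [Finite G] [IsSimpleGroup G] (hG : ¬ IsMulCommutative G)
    (hFT : FT G) (hab : ∀ t : G, orderOf t = 2 → IsMulCommutative ↥(centralizer ({t} : Set G))) :
    ∃ (F : Type) (_ : Field F) (_ : Fintype F) (f : ℕ), 2 ≤ f ∧ Fintype.card F = 2 ^ f ∧
      Nonempty (G ≃* Matrix.ProjectiveSpecialLinearGroup (Fin 2) F) := by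
  classical
  haveI : Fact (Nat.Prime 2) := ⟨Nat.prime_two⟩
  have hnc : ¬ ∀ a b : G, a * b = b * a := fun h1 => hG ⟨⟨h1⟩⟩
  have hss : NS G := by
    intro N hN hsol
    rcases hN.eq_bot_or_eq_top with h1 | h1
    · exact h1
    · exfalso
      apply hnc
      rw [IsSimpleGroup.comm_iff_isSolvable]
      subst h1
      exact (Group.isSolvable_of_surjective (f := (Subgroup.topEquiv : (⊤ : Subgroup G) ≃* G).toMonoidHom)
        (Subgroup.topEquiv : (⊤ : Subgroup G) ≃* G).surjective)
  have hbot : (⊤ : Subgroup G) ≠ ⊥ := top_ne_bot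
  have heven : Even (Nat.card G) := by
    rw [← Nat.not_odd_iff_even]
    intro hodd
    have h1 := no_odd hss hFT (N := ⊤) inferInstance (by
      rw [Subgroup.card_top]
      exact hodd)
    exact hbot h1
  rcases Cfsg.Agent.S2202.result heven hab with h1 | h1 | ⟨F, _, _, A, _, _, hch, hoddA, ⟨φ⟩⟩
  · -- cyclic Sylow subgroups
    exfalso
    obtain ⟨T⟩ : Nonempty (Sylow 2 G) := inferInstance
    have hc := h1 T
    have h3 : IsCyclic ↥((T : Subgroup G).subgroupOf (⊤ : Subgroup G)) := by
      haveI := hc
      let e : ↥((T : Subgroup G).subgroupOf (⊤ : Subgroup G)) →* ↥(T : Subgroup G) :=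
        { toFun := fun x => ⟨(x : (⊤ : Subgroup G)), mem_subgroupOf.1 x.2⟩
          map_one' := rfl
          map_mul' := fun _ _ => rfl }
      refine isCyclic_of_injective e ?_
      intro x y hxy
      apply Subtype.ext
      apply Subtype.ext
      have h5 := congrArg (fun z : ↥(T : Subgroup G) => (z : G)) hxy
      exact h5
    exact hbot (no_cyclic hss hFT T inferInstance h3)
  · -- normal Sylow subgroups
    exfalso
    obtain ⟨T⟩ : Nonempty (Sylow 2 G) := inferInstance
    have h3 := no_two hss (h1 T) T.isPGroup'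
    have h4 := T.not_dvd_index
    rw [h3, Subgroup.index_bot] at h4
    exact h4 heven.two_dvd
  · -- `SL₂(F) × A`
    have hA1 : ∀ c : A, c = 1 := by
      intro c
      have h1 : φ.symm (1, c) = 1 := by
        refine central_eq_one hss (inferInstance : (⊤ : Subgroup G).Normal) (mem_top _) ?_
        intro u _
        apply φ.injective
        rw [map_mul, map_mul, MulEquiv.apply_symm_apply]
        apply Prod.ext
        · simp
        · simp [mul_comm]
      have h2 : ((1 : Matrix.SpecialLinearGroup (Fin 2) F), c) = 1 := by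
        have := congrArg φ h1
        rwa [MulEquiv.apply_symm_apply, map_one] at this
      exact congrArg Prod.snd h2
    haveI : Unique A := ⟨⟨1⟩, hA1⟩
    let χ : G ≃* Matrix.SpecialLinearGroup (Fin 2) F := φ.trans MulEquiv.prodUnique
    have h2F : (2 : F) = 0 := by
      have := CharP.cast_eq_zero F 2
      simpa using this
    obtain ⟨n, hn2, hn⟩ := FiniteField.card F 2
    refine ⟨F, inferInstance, inferInstance, n, ?_, hn, ⟨χ.trans (pslEquivSL h2F).symm⟩⟩
    by_contra hn1
    have hn' : (n : ℕ) = 1 := by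
      have := n.pos
      omega
    have hcard : Nat.card G = 6 := by
      rw [Nat.card_congr χ.toEquiv, card_SL2, hn, hn']
      norm_num
    obtain ⟨y, hy⟩ := exists_prime_orderOf_dvd_card' (G := G) 3 (by rw [hcard]; norm_num)
    haveI hind : (zpowers y).Normal := by
      refine Subgroup.normal_of_index_eq_two ?_
      have h3 := (zpowers y).card_mul_index
      rw [Nat.card_zpowers, hy, hcard] at h3
      omega
    rcases hind.eq_bot_or_eq_top with h3 | h3
    · rw [zpowers_eq_bot] at h3
      rw [h3, orderOf_one] at hy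
      omega
    · have h4 := Nat.card_zpowers y
      rw [h3, Subgroup.card_top, hy, hcard] at h4
      omega

end Cfsg.Agent.Lib.Rank3.Basic
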