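import Cfsg.Agent.Lib.Rank3.Basic
import Cfsg.Agent.Lib.Char.Burnside2
import Cfsg.Agent.S0215

/-!
# Three class sizes `u ∣ w`, `v` with `u`, `v` coprime
-/

set_option autoImplicit false
set_option linter.unusedSectionVars false
set_option linter.style.haveILetI false

namespace Cfsg.Agent.Lib.Rank3.T2

open Subgroup Cfsg.Agent.Lib.ClassSize.Basic Cfsg.Agent.Lib.ClassSize.Coprime
  Cfsg.Agent.Lib.Basic.SylowUtil Cfsg.Agent.Lib.Rank3.Basic
open scoped Pointwise

universe u

variable {G : Type u} [Group G] [Finite G]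

/-- Class size data. -/
structure Sizes (G : Type u) [Group G] (u v w : ℕ) : Prop where
  hs : ∀ x : G, x ≠ 1 → cs x = u ∨ cs x = v ∨ cs x = w
  huw : u ∣ w
  hne : u ≠ w
  hcop : Nat.Coprime u v
  hu1 : 1 < u
  hv1 : 1 < v

variable {u v w : ℕ}

theorem Sizes.not_v_dvd_u (h : Sizes G u v w) : ¬ v ∣ u := by
  intro hd
  have h1 := Nat.Coprime.eq_one_of_dvd h.hcop.symm hd
  have := h.hv1
  omega

theorem Sizes.not_u_dvd_v (h : Sizes G u v w) : ¬ u ∣ v := by
  intro hd
  have h1 := Nat.Coprime.eq_one_of_dvd h.hcop hd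
  have := h.hu1
  omega

theorem Sizes.not_w_dvd_v (h : Sizes G u v w) : ¬ w ∣ v := fun hd => h.not_u_dvd_v (h.huw.trans hd)

theorem Sizes.not_w_dvd_u (h : Sizes G u v w) : ¬ w ∣ u := fun hd => h.hne (Nat.dvd_antisymm h.huw hd)

theorem Sizes.eq_u_of_dvd (h : Sizes G u v w) {x : G} (hx : x ≠ 1) (hd : cs x ∣ u) : cs x = u := by
  rcases h.hs x hx with h1 | h1 | h1
  · exact h1
  · rw [h1] at hd
    exact absurd hd h.not_v_dvd_u
  · rw [h1] at hd
    exact absurd hd h.not_w_dvd_u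

theorem Sizes.eq_v_of_dvd (h : Sizes G u v w) {x : G} (hx : x ≠ 1) (hd : cs x ∣ v) : cs x = v := by
  rcases h.hs x hx with h1 | h1 | h1
  · rw [h1] at hd
    exact absurd hd h.not_u_dvd_v
  · exact h1
  · rw [h1] at hd
    exact absurd hd h.not_w_dvd_v

theorem Sizes.eq_w_of_dvd (h : Sizes G u v w) {x : G} (hx : x ≠ 1) (hd : w ∣ cs x) : cs x = w := by
  rcases h.hs x hx with h1 | h1 | h1
  · rw [h1] at hd
    exact absurd hd h.not_w_dvd_u
  · rw [h1] at hd
    exact absurd hd h.not_w_dvd_v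
  · exact h1

theorem Sizes.pow_u (h : Sizes G u v w) {x : G} (hx : cs x = u) {n : ℕ} (hn : x ^ n ≠ 1) :
    cs (x ^ n) = u ∧ cent (x ^ n) = cent x := by
  have h1 : cs (x ^ n) = u := h.eq_u_of_dvd hn (hx ▸ cs_dvd_of_pow x n)
  exact ⟨h1, (eq_of_le_of_index_eq (cent_le_of_pow x n) (by
    show cs x = cs (x ^ n)
    rw [hx, h1])).symm⟩

theorem Sizes.pow_v (h : Sizes G u v w) {x : G} (hx : cs x = v) {n : ℕ} (hn : x ^ n ≠ 1) :
    cs (x ^ n) = v ∧ cent (x ^ n) = cent x := by
  have h1 : cs (x ^ n) = v := h.eq_v_of_dvd hn (hx ▸ cs_dvd_of_pow x n)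
  exact ⟨h1, (eq_of_le_of_index_eq (cent_le_of_pow x n) (by
    show cs x = cs (x ^ n)
    rw [hx, h1])).symm⟩

/-- A maximal class size: centralizers of commuting elements of coprime order. -/
theorem cent_le_of_max {a b : G} (ha1 : a ≠ 1) (hmax : ∀ x : G, x ≠ 1 → cs a ∣ cs x → cs x = cs a)
    (hab : Commute a b) (hc : Nat.Coprime (orderOf a) (orderOf b)) : cent a ≤ cent b := by
  have hne : a * b ≠ 1 := by
    intro h1
    have h2 : b = a⁻¹ := eq_inv_of_mul_eq_one_right h1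
    rw [h2, orderOf_inv, Nat.coprime_self] at hc
    exact ha1 (orderOf_eq_one_iff.1 hc)
  have h1 := cent_mul_le_left hab hc
  have h3 := hmax _ hne (Subgroup.index_dvd_of_le h1)
  have h4 : cent (a * b) = cent a := eq_of_le_of_index_eq h1 h3
  rw [← h4]
  exact cent_mul_le_right hab hc

theorem mem_of_mul_mem {H : Subgroup G} {a b : G} (hab : Commute a b)
    (hc : Nat.Coprime (orderOf a) (orderOf b)) (h : a * b ∈ H) : a ∈ H ∧ b ∈ H := by
  obtain ⟨m, hm⟩ := exists_pow_eq_self_of_coprime hc.symm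
  have h2 : (a * b) ^ orderOf b = a ^ orderOf b := by
    rw [hab.mul_pow, pow_orderOf_eq_one, mul_one]
  have h3 : ((a * b) ^ orderOf b) ^ m = a := by rw [h2, hm]
  have ha : a ∈ H := by
    rw [← h3]
    exact H.pow_mem (H.pow_mem h _) _
  refine ⟨ha, ?_⟩
  have := H.mul_mem (H.inv_mem ha) h
  rwa [inv_mul_cancel_left] at this

/-- A prime dividing the order gives a power of that prime order. -/
theorem exists_pow_prime (g : G) {p : ℕ} (hp : p ∣ orderOf g) : orderOf (g ^ (orderOf g / p)) = p :=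
  orderOf_pow_orderOf_div (orderOf_pos g).ne' hp

section Simple

variable [IsSimpleGroup G]

/-- In a simple group elements with coprime class sizes do not commute. -/
theorem not_commute_of_coprime (hZ : center G = ⊥) {x z : G} (hx : x ≠ 1) (hz : z ≠ 1)
    (hc : Nat.Coprime (cs x) (cs z)) : ¬ Commute x z := by
  intro hcomm
  have hxz : x ∈ cent z := mem_cent_iff.2 hcomm.symm
  have hle : normalClosure ({x} : Set G) ≤ cent z := by
    rw [normalClosure, Subgroup.closure_le]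
    intro a ha
    obtain ⟨b, hb, hba⟩ := Group.mem_conjugatesOfSet_iff.1 ha
    rw [Set.mem_singleton_iff] at hb
    subst hb
    obtain ⟨g, rfl⟩ := isConj_iff.1 hba
    obtain ⟨c, hc1, hc2⟩ := exists_conj_eq hc.symm g
    rw [hc2]
    exact (cent z).mul_mem ((cent z).mul_mem hc1 hxz) ((cent z).inv_mem hc1)
  have hN : normalClosure ({x} : Set G) = ⊤ := by
    rcases IsSimpleGroup.eq_bot_or_eq_top_of_normal (normalClosure ({x} : Set G))
      inferInstance with h1 | h1
    · exfalso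
      have h2 : x ∈ normalClosure ({x} : Set G) := subset_normalClosure (Set.mem_singleton x)
      rw [h1, Subgroup.mem_bot] at h2
      exact hx h2
    · exact h1
  rw [hN, top_le_iff] at hle
  have h3 : z ∈ center G := by
    rw [Subgroup.mem_center_iff]
    intro g
    have : g ∈ cent z := by rw [hle]; trivial
    exact (mem_cent_iff.1 this).symm
  rw [hZ, Subgroup.mem_bot] at h3
  exact hz h3

/-- A central element of a Sylow subgroup. -/
theorem exists_central_of_sylow {p : ℕ} [Fact p.Prime] (P : Sylow p G) (hp : p ∣ Nat.card G) :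
    ∃ z ∈ (P : Subgroup G), z ≠ 1 ∧ (P : Subgroup G) ≤ cent z := by
  have hne : (P : Subgroup G) ≠ ⊥ := P.ne_bot_of_dvd_card hp
  haveI : Nontrivial ↥(P : Subgroup G) := (Subgroup.nontrivial_iff_ne_bot _).2 hne
  haveI : Nontrivial (center ↥(P : Subgroup G)) := P.isPGroup'.center_nontrivial
  obtain ⟨c, hc⟩ := exists_ne (1 : center ↥(P : Subgroup G))
  refine ⟨((c : ↥(P : Subgroup G)) : G), (c : ↥(P : Subgroup G)).2, ?_, ?_⟩
  · intro h
    apply hc
    apply Subtype.ext
    apply Subtype.ext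
    exact h
  · intro a ha
    apply mem_cent_iff.2
    have := (Subgroup.mem_center_iff.1 c.2) ⟨a, ha⟩
    exact (congrArg Subtype.val this).symm

theorem dvd_card_of_cs (x : G) : cs x ∣ Nat.card G := Subgroup.index_dvd_card _

/-- Fact A. -/
theorem Sizes.factA (h : Sizes G u v w) {x₀ : G} (hx₀ : cs x₀ = u) {p : ℕ} [Fact p.Prime] (hp : p ∣ u)
    (P : Sylow p G) : ∃ z ∈ (P : Subgroup G), z ≠ 1 ∧ (P : Subgroup G) ≤ cent z ∧ cs z = v := by
  have hpG : p ∣ Nat.card G := hp.trans (hx₀ ▸ dvd_card_of_cs x₀)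
  obtain ⟨z, hz, hz1, hle⟩ := exists_central_of_sylow P hpG
  refine ⟨z, hz, hz1, hle, ?_⟩
  have hnd : ¬ p ∣ cs z := not_dvd_cs_of_sylow_le P hle
  rcases h.hs z hz1 with h1 | h1 | h1
  · rw [h1] at hnd
    exact absurd hp hnd
  · exact h1
  · rw [h1] at hnd
    exact absurd (hp.trans h.huw) hnd

theorem Sizes.not_commute_uv (h : Sizes G u v w) (hZ : center G = ⊥) {x z : G} (hx : cs x = u)
    (hz : cs z = v) : ¬ Commute x z := by
  have hx1 : x ≠ 1 := by
    rintro rfl
    rw [cs_one] at hx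
    have := h.hu1
    omega
  have hz1 : z ≠ 1 := by
    rintro rfl
    rw [cs_one] at hz
    have := h.hv1
    omega
  exact not_commute_of_coprime hZ hx1 hz1 (by rw [hx, hz]; exact h.hcop)

theorem Sizes.ne_one_u (h : Sizes G u v w) {x : G} (hx : cs x = u) : x ≠ 1 := by
  rintro rfl
  rw [cs_one] at hx
  have := h.hu1
  omega

theorem Sizes.ne_one_v (h : Sizes G u v w) {x : G} (hx : cs x = v) : x ≠ 1 := by
  rintro rfl
  rw [cs_one] at hx
  have := h.hv1
  omega

/-- Elements with class size `u` have order prime to `u`. -/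
theorem Sizes.not_dvd_order_u (h : Sizes G u v w) (hZ : center G = ⊥) {x : G} (hx : cs x = u) {p : ℕ}
    [hpp : Fact p.Prime] (hp : p ∣ u) : ¬ p ∣ orderOf x := by
  intro hd
  have ho := exists_pow_prime x hd
  set y := x ^ (orderOf x / p) with hy
  have hy1 : y ≠ 1 := by
    intro h1
    rw [h1, orderOf_one] at ho
    exact hpp.out.one_lt.ne ho
  have hyu := (h.pow_u hx hy1).1
  obtain ⟨P, hP⟩ := exists_sylow_of_orderOf (p := p) (x := y) (k := 1) (by rw [ho, pow_one])
  obtain ⟨z, -, -, hle, hzv⟩ := h.factA hx hp P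
  exact h.not_commute_uv hZ hyu hzv (mem_cent_iff.1 (mem_cent_comm.1 (hle hP)))

/-- Centralizers of elements with class size `u` have no elements of prime order dividing `u`. -/
theorem Sizes.no_prime_cent (h : Sizes G u v w) (hZ : center G = ⊥) {x y : G} (hx : cs x = u) {p : ℕ}
    [hpp : Fact p.Prime] (hp : p ∣ u) (hy : y ∈ cent x) (ho : orderOf y = p) : False := by
  have hy1 : y ≠ 1 := by
    rintro rfl
    rw [orderOf_one] at ho
    exact hpp.out.one_lt.ne ho
  obtain ⟨P, hP⟩ := exists_sylow_of_orderOf (p := p) (x := y) (k := 1) (by rw [ho, pow_one])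
  obtain ⟨z, -, -, hle, hzv⟩ := h.factA hx hp P
  have hyz : y ∈ cent z := hle hP
  have hxy : Commute x y := mem_cent_iff.1 hy
  have hcsy : cs y = w := by
    rcases h.hs y hy1 with h1 | h1 | h1
    · exact absurd (mem_cent_iff.1 (mem_cent_comm.1 hyz)) (h.not_commute_uv hZ h1 hzv)
    · exact absurd hxy (h.not_commute_uv hZ hx h1)
    · exact h1
  have hc : Nat.Coprime (orderOf y) (orderOf x) := by
    rw [ho]
    exact (Nat.Prime.coprime_iff_not_dvd hpp.out).2 (h.not_dvd_order_u hZ hx hp)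
  have hle2 : cent y ≤ cent x :=
    cent_le_of_max hy1 (fun t ht hd => by
      rw [hcsy] at hd ⊢
      exact h.eq_w_of_dvd ht hd) hxy.symm hc
  have hzx : z ∈ cent x := hle2 (mem_cent_comm.1 hyz)
  exact h.not_commute_uv hZ hx hzv (mem_cent_iff.1 hzx)

theorem exists_prime_pow_of_ne_one {H : Subgroup G} {d : G} (hd : d ∈ H) (hd1 : d ≠ 1) :
    ∃ y ∈ H, ∃ s : ℕ, s.Prime ∧ orderOf y = s := by
  have ho : orderOf d ≠ 1 := fun h => hd1 (orderOf_eq_one_iff.1 h)
  obtain ⟨s, hs, hsd⟩ := Nat.exists_prime_and_dvd ho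
  exact ⟨d ^ (orderOf d / s), H.pow_mem hd _, s, hs, exists_pow_prime d hsd⟩

/-- Case (a): `v ∣ w` is impossible. -/
theorem no_case_a (h : Sizes G u v w) (h' : Sizes G v u w) (hZ : center G = ⊥) {x₀ z₀ y₀ : G}
    (hx₀ : cs x₀ = u) (hz₀ : cs z₀ = v) (hy₀ : cs y₀ = w) : False := by
  obtain ⟨p, hp, hpu⟩ := Nat.exists_prime_and_dvd h.hu1.ne'
  obtain ⟨q, hq, hqv⟩ := Nat.exists_prime_and_dvd h.hv1.ne'
  haveI : Fact p.Prime := ⟨hp⟩
  haveI : Fact q.Prime := ⟨hq⟩
  obtain ⟨P⟩ : Nonempty (Sylow p G) := inferInstance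
  obtain ⟨Q⟩ : Nonempty (Sylow q G) := inferInstance
  obtain ⟨z, hzP, hz1, hleP, hzv⟩ := h.factA hx₀ hpu P
  obtain ⟨x, hxQ, hx1, hleQ, hxu⟩ := h'.factA hz₀ hqv Q
  obtain ⟨l, hl⟩ := orderOf_eq_pow_of_mem Q hxQ
  have hbot : cent x ⊓ cent z = ⊥ := by
    by_contra hne
    obtain ⟨⟨d, hd⟩, hd1'⟩ := Subgroup.ne_bot_iff_exists_ne_one.1 hne
    have hd1 : d ≠ 1 := fun h => hd1' (Subtype.ext h)
    obtain ⟨e, he, s, hs, hos⟩ := exists_prime_pow_of_ne_one hd hd1
    haveI : Fact s.Prime := ⟨hs⟩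
    have he1 : e ≠ 1 := by
      rintro rfl
      rw [orderOf_one] at hos
      exact hs.one_lt.ne hos
    have hsu : ¬ s ∣ u := fun hd => h.no_prime_cent hZ hxu hd he.1 hos
    have hsv : ¬ s ∣ v := fun hd => h'.no_prime_cent hZ hzv hd he.2 hos
    have hxe : Commute x e := mem_cent_iff.1 he.1
    have hze : Commute z e := mem_cent_iff.1 he.2
    have hcse : cs e = w := by
      rcases h.hs e he1 with h1 | h1 | h1
      · exact absurd hze.symm (h.not_commute_uv hZ h1 hzv)
      · exact absurd hxe (h.not_commute_uv hZ hxu h1)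
      · exact h1
    have hsq : s ≠ q := by
      rintro rfl
      exact hsv hqv
    have hc : Nat.Coprime (orderOf e) (orderOf x) := by
      rw [hos, hl]
      exact Nat.Coprime.pow_right _ ((Nat.coprime_primes hs hq).2 hsq)
    have hle2 : cent e ≤ cent x :=
      cent_le_of_max he1 (fun t ht hd => by
        rw [hcse] at hd ⊢
        exact h.eq_w_of_dvd ht hd) hxe.symm hc
    have hzx : z ∈ cent x := hle2 (mem_cent_comm.1 he.2)
    exact h.not_commute_uv hZ hxu hzv (mem_cent_iff.1 hzx)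
  have hcard : Nat.card G = u * v := by
    have h1 := index_inf_of_coprime (H := cent x) (K := cent z) (by
      show Nat.Coprime (cs x) (cs z)
      rw [hxu, hzv]
      exact h.hcop)
    rw [hbot, Subgroup.index_bot] at h1
    rw [h1]
    show cs x * cs z = _
    rw [hxu, hzv]
  have hdvd : u * v ∣ w := Nat.Coprime.mul_dvd_of_dvd_of_dvd h.hcop h.huw h'.huw
  have hy1 : y₀ ≠ 1 := by
    rintro rfl
    rw [cs_one] at hy₀
    have h5 : u ∣ 1 := hy₀ ▸ h.huw
    have := h.hu1
    have := Nat.dvd_one.1 h5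
    omega
  have hc1 := (cent y₀).card_mul_index
  have hpos : 0 < u * v := Nat.mul_pos (by have := h.hu1; omega) (by have := h.hv1; omega)
  have hw : (cent y₀).index = w := hy₀
  rw [hw, hcard] at hc1
  have hle : u * v ≤ w := by
    apply Nat.le_of_dvd _ hdvd
    have h6 : w ≠ 0 := by
      intro h6
      rw [h6, mul_zero] at hc1
      omega
    omega
  have hnt : 1 < Nat.card (cent y₀) := by
    haveI : Nontrivial (cent y₀) :=
      ⟨⟨⟨y₀, mem_cent_self y₀⟩, 1, fun h => hy1 (congrArg Subtype.val h)⟩⟩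
    exact Finite.one_lt_card
  have : 2 * w ≤ Nat.card (cent y₀) * w := Nat.mul_le_mul_right _ hnt
  have h10 : 0 < w := lt_of_lt_of_le hpos hle
  omega

end Simple

section CaseB

variable [IsSimpleGroup G]

theorem Sizes.eq_v_of_v_dvd (h : Sizes G u v w) (hb : ¬ v ∣ w) {x : G} (hx : x ≠ 1) (hd : v ∣ cs x) :
    cs x = v := by
  rcases h.hs x hx with h1 | h1 | h1
  · rw [h1] at hd
    exact absurd hd h.not_v_dvd_u
  · exact h1
  · rw [h1] at hd
    exact absurd hd hb

/-- `u` is not a prime power. -/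
theorem Sizes.exists_prime_ne (h : Sizes G u v w) (hZ : center G = ⊥) {x₀ : G} (hx₀ : cs x₀ = u)
    (r : ℕ) (hr : r.Prime) : ∃ s : ℕ, s.Prime ∧ s ≠ r ∧ s ∣ u := by
  by_contra hno
  push Not at hno
  have hu0 : u ≠ 0 := by
    have := h.hu1
    omega
  have h1 : u = r ^ u.primeFactorsList.length :=
    Nat.eq_prime_pow_of_unique_prime_dvd hu0 (fun {d} hd hdu => by
      by_contra hne
      exact hno d hd hne hdu)
  have h2 := Cfsg.Agent.Lib.Char.Burnside2.mem_center_of_prime_power_class r _ hr x₀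
    (h.ne_one_u hx₀) (hx₀.trans h1)
  rw [hZ, Subgroup.mem_bot] at h2
  exact h.ne_one_u hx₀ h2

/-- Centralizers of elements with class size `v` are abelian. -/
theorem Sizes.abelian_v (h : Sizes G u v w) (hb : ¬ v ∣ w) (hZ : center G = ⊥) {x₀ z : G}
    (hx₀ : cs x₀ = u) (hz : cs z = v) : ∀ a ∈ cent z, ∀ b ∈ cent z, a * b = b * a := by
  have hz1 := h.ne_one_v hz
  have hmaxv : ∀ {t : G}, cs t = v → ∀ x : G, x ≠ 1 → cs t ∣ cs x → cs x = cs t := by
    intro t ht x hx hd
    rw [ht] at hd ⊢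
    exact h.eq_v_of_v_dvd hb hx hd
  have ho : orderOf z ≠ 1 := fun h1 => hz1 (orderOf_eq_one_iff.1 h1)
  obtain ⟨r, hr, hrd⟩ := Nat.exists_prime_and_dvd ho
  have hor := exists_pow_prime z hrd
  set z₁ := z ^ (orderOf z / r) with hz₁
  have hz₁1 : z₁ ≠ 1 := by
    intro h1
    rw [h1, orderOf_one] at hor
    exact hr.one_lt.ne hor
  obtain ⟨hcz₁, hcentz₁⟩ := h.pow_v hz hz₁1
  obtain ⟨s, hs, hsr, hsu⟩ := h.exists_prime_ne hZ hx₀ r hr
  haveI : Fact s.Prime := ⟨hs⟩
  have hsG : s ∣ Nat.card G := hsu.trans (hx₀ ▸ dvd_card_of_cs x₀)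
  have hsC : s ∣ Nat.card (cent z₁) := by
    have h1 := (cent z₁).card_mul_index
    have h2 : (cent z₁).index = v := hcz₁
    rw [← h1, h2] at hsG
    have hcop : Nat.Coprime s v := Nat.Coprime.coprime_dvd_left hsu h.hcop
    exact hcop.dvd_of_dvd_mul_right hsG
  obtain ⟨y, hy⟩ := exists_prime_orderOf_dvd_card' s hsC
  have hyo : orderOf (y : G) = s := by rw [Subgroup.orderOf_coe, hy]
  have hy1 : (y : G) ≠ 1 := by
    intro h1
    rw [h1, orderOf_one] at hyo
    exact hs.one_lt.ne' hyo.symm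
  have hcomm : Commute z₁ (y : G) := mem_cent_iff.1 y.2
  have hrs : Nat.Coprime (orderOf z₁) (orderOf (y : G)) := by
    rw [hor, hyo]
    exact (Nat.coprime_primes hr hs).2 hsr.symm
  have hle1 : cent z₁ ≤ cent (y : G) :=
    cent_le_of_max hz₁1 (hmaxv hcz₁) hcomm hrs
  have hcsy : cs (y : G) = v :=
    h.eq_v_of_dvd hy1 (by
      rw [← hcz₁]
      exact Subgroup.index_dvd_of_le hle1)
  have hcenty : cent z₁ = cent (y : G) :=
    eq_of_le_of_index_eq hle1 (by
      show cs z₁ = cs (y : G)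
      rw [hcz₁, hcsy])
  have key : ∀ g : G, g ∈ cent z₁ → cent z₁ ≤ cent g := by
    intro g
    refine primary_induction (M := fun g => g ∈ cent z₁ → cent z₁ ≤ cent g) ?_ ?_ ?_ g
    · rintro g ⟨l, e, hl, hoe⟩ hg
      by_cases hlr : l = r
      · subst hlr
        rw [hcenty] at hg ⊢
        refine cent_le_of_max hy1 (hmaxv hcsy) (mem_cent_iff.1 hg) ?_
        rw [hyo, hoe]
        exact Nat.Coprime.pow_right _ ((Nat.coprime_primes hs hl).2 hsr)
      · refine cent_le_of_max hz₁1 (hmaxv hcz₁) (mem_cent_iff.1 hg) ?_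
        rw [hor, hoe]
        exact Nat.Coprime.pow_right _ ((Nat.coprime_primes hr hl).2 (Ne.symm hlr))
    · intro _ a _
      rw [mem_cent_iff]
      simp
    · intro a b hab hc ha hb hg
      obtain ⟨h1, h2⟩ := mem_of_mul_mem hab hc hg
      exact le_trans (le_inf (ha h1) (hb h2)) (inf_cent_le_cent_mul a b)
  intro a ha b hb
  rw [← hcentz₁] at ha hb
  exact mem_cent_iff.1 (key a ha hb)

/-- All nonidentity elements of a centralizer of class size `v` have that centralizer. -/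
theorem Sizes.cent_eq_v (h : Sizes G u v w) (hb : ¬ v ∣ w) (hZ : center G = ⊥) {x₀ z y : G}
    (hx₀ : cs x₀ = u) (hz : cs z = v) (hy : y ∈ cent z) (hy1 : y ≠ 1) :
    cent y = cent z ∧ cs y = v := by
  have hab := h.abelian_v hb hZ hx₀ hz
  have hle : cent z ≤ cent y := fun a ha => mem_cent_iff.2 (hab y hy a ha)
  have hcsy : cs y = v := h.eq_v_of_dvd hy1 (by
    rw [← hz]
    exact Subgroup.index_dvd_of_le hle)
  exact ⟨(eq_of_le_of_index_eq hle (by
    show cs z = cs y
    rw [hz, hcsy])).symm, hcsy⟩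

theorem Sizes.inf_eq_bot (h : Sizes G u v w) (hb : ¬ v ∣ w) (hZ : center G = ⊥) {x z : G}
    (hx : cs x = u) (hz : cs z = v) : cent x ⊓ cent z = ⊥ := by
  by_contra hne
  obtain ⟨⟨d, hd⟩, hd1'⟩ := Subgroup.ne_bot_iff_exists_ne_one.1 hne
  have hd1 : d ≠ 1 := fun h => hd1' (Subtype.ext h)
  obtain ⟨h1, -⟩ := h.cent_eq_v hb hZ hx hz hd.2 hd1
  have h2 : x ∈ cent d := mem_cent_comm.1 hd.1
  rw [h1] at h2
  exact h.not_commute_uv hZ hx hz (mem_cent_iff.1 (mem_cent_comm.1 h2))

theorem Sizes.card_eq (h : Sizes G u v w) (hb : ¬ v ∣ w) (hZ : center G = ⊥) {x z : G}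
    (hx : cs x = u) (hz : cs z = v) : Nat.card G = u * v := by
  have h1 := index_inf_of_coprime (H := cent x) (K := cent z) (by
    show Nat.Coprime (cs x) (cs z)
    rw [hx, hz]
    exact h.hcop)
  rw [h.inf_eq_bot hb hZ hx hz, Subgroup.index_bot] at h1
  rw [h1]
  show cs x * cs z = _
  rw [hx, hz]

theorem Sizes.card_cent_u (h : Sizes G u v w) (hb : ¬ v ∣ w) (hZ : center G = ⊥) {x z : G}
    (hx : cs x = u) (hz : cs z = v) : Nat.card (cent x) = v := by
  have h1 := (cent x).card_mul_index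
  have h2 : (cent x).index = u := hx
  rw [h2, h.card_eq hb hZ hx hz, mul_comm u v] at h1
  exact Nat.eq_of_mul_eq_mul_right (by have := h.hu1; omega) h1

theorem Sizes.card_cent_v (h : Sizes G u v w) (hb : ¬ v ∣ w) (hZ : center G = ⊥) {x z : G}
    (hx : cs x = u) (hz : cs z = v) : Nat.card (cent z) = u := by
  have h1 := (cent z).card_mul_index
  have h2 : (cent z).index = v := hz
  rw [h2, h.card_eq hb hZ hx hz] at h1
  exact Nat.eq_of_mul_eq_mul_right (by have := h.hv1; omega) h1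

/-- The statement of the character-theoretic lemma. -/
def CharLemma (G : Type u) [Group G] : Prop :=
  ∀ (U A : Subgroup G), (∀ a ∈ U, ∀ b ∈ U, a * b = b * a) →
    (∀ c ∈ U, c ≠ 1 → ∀ g : G, g * c = c * g → g ∈ U) →
    Nat.card U * Nat.card A = Nat.card G → Nat.Coprime (Nat.card U) (Nat.card A) →
    ∀ y ∈ A, y ≠ 1 → cs y = Nat.card U → ∀ a ∈ A, IsConj a y → a = y

/-- An involution with class size `u` contradicts Glauberman's theorem. -/
theorem Sizes.no_invol_u (h : Sizes G u v w) (hb : ¬ v ∣ w) (hZ : center G = ⊥) (hCL : CharLemma G)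
    {t z : G} (ht : orderOf t = 2) (hcst : cs t = u) (hz : cs z = v) : False := by
  haveI : Fact (Nat.Prime 2) := ⟨Nat.prime_two⟩
  have ht1 : t ≠ 1 := h.ne_one_u hcst
  have h2u : ¬ 2 ∣ u := fun hd => h.not_dvd_order_u hZ hcst hd (by rw [ht])
  have hab := h.abelian_v hb hZ hcst hz
  have hcc : ∀ c ∈ cent z, c ≠ 1 → ∀ g : G, g * c = c * g → g ∈ cent z := by
    intro c hc hc1 g hg
    obtain ⟨h1, -⟩ := h.cent_eq_v hb hZ hcst hz hc hc1
    rw [← h1]
    exact mem_cent_iff.2 hg.symm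
  have hcardU := h.card_cent_v hb hZ hcst hz
  have hcardA := h.card_cent_u hb hZ hcst hz
  have hCL' := hCL (cent z) (cent t) hab hcc (by
    rw [hcardU, hcardA, h.card_eq hb hZ hcst hz]) (by
    rw [hcardU, hcardA]
    exact h.hcop) t (mem_cent_self t) ht1 (by rw [hcardU, hcst])
  obtain ⟨P, hP⟩ := exists_sylow_le_cent (l := 2) (z := t) (by rw [hcst]; exact h2u)
  -- conjugates of `t` in `P` equal `t`
  have hiso : ∀ g : G, g * t * g⁻¹ ∈ (P : Subgroup G) → g * t * g⁻¹ = t := by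
    intro g hg
    exact hCL' _ (hP hg) (isConj_iff.2 ⟨g⁻¹, by group⟩)
  have htP : t ∈ (P : Subgroup G) := by
    obtain ⟨Q, hQ⟩ := exists_sylow_of_orderOf (p := 2) (x := t) (k := 1) (by rw [ht, pow_one])
    obtain ⟨g, hg⟩ := exists_conj_smul_eq Q P
    have h1 : MulAut.conj g • t ∈ MulAut.conj g • (Q : Subgroup G) :=
      Subgroup.smul_mem_pointwise_smul _ _ _ hQ
    rw [hg] at h1
    have h2 : g * t * g⁻¹ ∈ (P : Subgroup G) := by
      simpa [MulAut.conj_apply] using h1
    rw [← hiso g h2]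
    exact h2
  obtain ⟨N, hN, hodd, hcomm⟩ := Cfsg.Agent.S0215.result P t ht htP hiso
  rcases IsSimpleGroup.eq_bot_or_eq_top_of_normal N hN with h1 | h1
  · apply ht1
    have : t ∈ center G := by
      rw [Subgroup.mem_center_iff]
      intro g
      have h3 := hcomm g
      rw [h1, Subgroup.mem_bot] at h3
      have h4 : t * g * t⁻¹ = g := by
        calc t * g * t⁻¹ = t * g * t⁻¹ * g⁻¹ * g := by group
          _ = g := by rw [h3, one_mul]
      calc g * t = t * g * t⁻¹ * t := by rw [h4]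
        _ = t * g := by group
    rwa [hZ, Subgroup.mem_bot] at this
  · rw [h1, Subgroup.card_top] at hodd
    have h3 : orderOf t ∣ Nat.card G := orderOf_dvd_natCard t
    rw [ht] at h3
    exact (Nat.not_even_iff_odd.2 hodd) (even_iff_two_dvd.2 h3)

/-- Case (b): all involutions have abelian centralizers. -/
theorem Sizes.case_b (h : Sizes G u v w) (hb : ¬ v ∣ w) (hZ : center G = ⊥) (hCL : CharLemma G)
    {z : G} (hz : cs z = v) (t : G) (ht : orderOf t = 2) :
    IsMulCommutative ↥(centralizer ({t} : Set G)) := by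
  refine inv_cent_abelian ?_ t ht
  intro t ht y hy hd
  have ht1 : t ≠ 1 := by
    rintro rfl
    rw [orderOf_one] at ht
    omega
  rcases h.hs t ht1 with h1 | h1 | h1
  · exact (h.no_invol_u hb hZ hCL ht h1 hz).elim
  · rw [h1] at hd ⊢
    exact h.eq_v_of_v_dvd hb hy hd
  · rw [h1] at hd ⊢
    exact h.eq_w_of_dvd hy hd

end CaseB

end Cfsg.Agent.Lib.Rank3.T2
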