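import Cfsg.Agent.Lib.Rank3.CC2
import Cfsg.Agent.Lib.Rank3.T2
import Cfsg.Agent.Lib.Basic.ConjCount

/-!
# The character lemma
-/

set_option autoImplicit false
set_option linter.unusedSectionVars false
set_option linter.style.haveILetI false

namespace Cfsg.Agent.Lib.Rank3.CC3

open scoped ComplexConjugate BigOperators
open Cfsg Cfsg.Agent.Lib.Char.CyclicTI Cfsg.Agent.Lib.Char.CompleteCor Cfsg.Agent.Lib.Char.Basic
  Cfsg.Agent.Lib.Rank3.CC1 Cfsg.Agent.Lib.Rank3.CC2 Cfsg.Agent.Lib.ClassSize.Coprime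
  Cfsg.Agent.Lib.ClassSize.Basic Cfsg.Agent.Lib.Rank3.T2
open Cfsg.Agent.Lib.Char.Integrality

universe u v

variable {G : Type u} [Group G] [Finite G] [IsSimpleGroup G]

/-- Burnside's vanishing in a simple group with trivial centre. -/
theorem vanish_of_coprime [Fintype G] (hZ : Subgroup.center G = ⊥) [Fintype (IrrCharacter G)]
    (ψ : IrrCharacter G) (hψ : ψ ≠ oneIrr) {y : G} (hy : y ≠ 1) {d : ℕ} (hd : (ψ : G → ℂ) 1 = d)
    (hcop : Nat.Coprime d (cs y)) : (ψ : G → ℂ) y = 0 := by
  classical
  obtain ⟨f, n, ρ, hirr, rfl⟩ := ψ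
  haveI := hirr
  have hdn : d = n := by
    have h1 : ρ.character 1 = (n : ℂ) := by
      rw [Representation.char_one]
      simp
    have h2 : ρ.character 1 = (d : ℂ) := hd
    rw [h1] at h2
    exact_mod_cast h2.symm
  subst hdn
  have hne : ρ.character ≠ fun _ => 1 := fun h => hψ (Subtype.ext h)
  have hcop' : Nat.Coprime (Module.finrank ℂ (Fin d → ℂ))
      (Subgroup.centralizer ({y} : Set G)).index := by
    rw [Module.finrank_fin_fun]
    exact hcop
  by_contra hz
  have hnorm := (Cfsg.Agent.Lib.Char.Burnside.character_eq_zero_or_norm_eq_of_coprime ρ y hcop').resolve_left hz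
  obtain ⟨ω, hω⟩ := (Cfsg.Agent.S0138.result ρ y).1 hnorm
  have hker : ρ.ker = ⊥ ∨ ρ.ker = ⊤ := (inferInstance : IsSimpleGroup G).eq_bot_or_eq_top_of_normal _
    (MonoidHom.normal_ker ρ)
  rcases hker with hker | hker
  · have hinj : Function.Injective ρ := (MonoidHom.ker_eq_bot_iff ρ).1 hker
    have hcen : y ∈ Subgroup.center G := by
      rw [Subgroup.mem_center_iff]
      intro h
      apply hinj
      rw [map_mul, map_mul, hω]
      ext v
      simp
    rw [hZ, Subgroup.mem_bot] at hcen
    exact hy hcen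
  · apply hne
    have htriv : ∀ x : G, ρ x = 1 := fun x => by
      have : x ∈ ρ.ker := by rw [hker]; trivial
      exact this
    have hchar : ∀ x : G, ρ.character x = (d : ℂ) := by
      intro x
      show LinearMap.trace ℂ _ (ρ x) = _
      rw [htriv]
      simp
    have hs := sum_character_mul_inv ρ
    simp only [hchar, Finset.sum_const, Finset.card_univ, nsmul_eq_mul, Nat.card_eq_fintype_card] at hs
    have hG : (Fintype.card G : ℂ) ≠ 0 := Nat.cast_ne_zero.mpr Fintype.card_ne_zero
    have hn2 : (d : ℂ) * d = 1 := mul_left_cancel₀ hG (by rw [hs, mul_one])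
    have hn1 : d * d = 1 := by exact_mod_cast hn2
    have hn : d = 1 := Nat.eq_one_of_mul_eq_one_right hn1
    funext x
    rw [hchar, hn]
    simp

/-- The abstract form of the character lemma. -/
theorem conj_eq_abstract [Fintype G] [Fintype (IrrCharacter G)] (hZ : Subgroup.center G = ⊥)
    {A : Subgroup G} [Fintype A] {W : Type v} [CommGroup W] [Fintype W] {ι : W →* G}
    (h : CC ι) (hA : ∀ w : W, w ≠ 1 → ∀ a : A, ¬ IsConj (ι w) (a : G))
    (hcard : Fintype.card A * Fintype.card W = Fintype.card G)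
    {y : G} (hyA : y ∈ A) (hy1 : y ≠ 1) (hcs : cs y = Fintype.card W)
    {a : G} (haA : a ∈ A) (hac : IsConj a y) : a = y := by
  classical
  have hvan : ∀ ψ : IrrCharacter G, ψ ≠ oneIrr → nn A (ψ : G → ℂ) * (ψ : G → ℂ) y = 0 := by
    intro ψ hψ
    by_cases hn : nn A (ψ : G → ℂ) = 0
    · rw [hn, zero_mul]
    · obtain ⟨d, hd, hcop⟩ := deg_coprime h hA hcard ψ hψ hn
      rw [vanish_of_coprime hZ ψ hψ hy1 hd (by rw [hcs]; exact hcop), mul_zero]
  have hsum : ∑ ψ : IrrCharacter G, nn A (ψ : G → ℂ) * (ψ : G → ℂ) y = 1 := by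
    rw [Finset.sum_eq_single (oneIrr : IrrCharacter G)]
    · rw [nn_one]
      simp [oneIrr]
    · intro ψ _ hψ
      exact hvan ψ hψ
    · simp
  have hcent : Nat.card (Subgroup.centralizer ({y} : Set G)) = Fintype.card A := by
    have h1 := (Subgroup.centralizer ({y} : Set G)).card_mul_index
    have h2 : (Subgroup.centralizer ({y} : Set G)).index = Fintype.card W := hcs
    rw [h2, Nat.card_eq_fintype_card (α := G), ← hcard] at h1
    exact Nat.eq_of_mul_eq_mul_right Fintype.card_pos h1
  rw [pi_formula, hcent] at hsum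
  have hAne : (Fintype.card A : ℂ) ≠ 0 := Nat.cast_ne_zero.2 Fintype.card_ne_zero
  have hcount : ∑ b : A, (if IsConj y (b : G) then (Fintype.card A : ℂ) else 0) =
      (Fintype.card A : ℂ) := by
    field_simp at hsum
    exact hsum
  have hcount' : ∑ b : A, (if IsConj y (b : G) then (1 : ℕ) else 0) = 1 := by
    have h1 : ∑ b : A, (if IsConj y (b : G) then (Fintype.card A : ℂ) else 0) =
        (Fintype.card A : ℂ) * ((∑ b : A, (if IsConj y (b : G) then (1 : ℕ) else 0) : ℕ) : ℂ) := by
      push_cast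
      rw [Finset.mul_sum]
      refine Finset.sum_congr rfl fun b _ => ?_
      split_ifs <;> simp
    rw [h1] at hcount
    have h2 := mul_left_cancel₀ hAne (hcount.trans (mul_one _).symm)
    exact_mod_cast h2
  by_contra hne
  have hle : (if IsConj y ((⟨y, hyA⟩ : A) : G) then (1 : ℕ) else 0) +
      (if IsConj y ((⟨a, haA⟩ : A) : G) then (1 : ℕ) else 0) ≤
      ∑ b : A, (if IsConj y (b : G) then (1 : ℕ) else 0) := by
    have hne' : (⟨y, hyA⟩ : A) ≠ ⟨a, haA⟩ := fun h5 => hne (congrArg Subtype.val h5).symm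
    calc _ = ∑ b ∈ ({⟨y, hyA⟩, ⟨a, haA⟩} : Finset A), (if IsConj y (b : G) then (1 : ℕ) else 0) :=
          (Finset.sum_pair (f := fun b : A => if IsConj y (b : G) then (1 : ℕ) else 0) hne').symm
      _ ≤ _ := Finset.sum_le_sum_of_subset_of_nonneg (Finset.subset_univ _)
          (fun _ _ _ => Nat.zero_le _)
  rw [hcount', if_pos (IsConj.refl y), if_pos hac.symm] at hle
  omega

/-- The character lemma. -/
theorem charLemma (hZ : Subgroup.center G = ⊥) : CharLemma G := by
  intro U A hab hcc hcard hcop y hyA hy1 hcs a haA hac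
  classical
  cases nonempty_fintype G
  haveI : Finite (IrrCharacter G) := Cfsg.Agent.Lib.Char.Complete.finite_irr
  cases nonempty_fintype (IrrCharacter G)
  haveI : Fintype U := Fintype.ofFinite _
  haveI : Fintype A := Fintype.ofFinite _
  letI : CommGroup U :=
    { (inferInstance : Group U) with
      mul_comm := fun a b => Subtype.ext (hab a a.2 b b.2) }
  have hCC : CC (U.subtype) :=
    { inj := Subtype.val_injective
      cc := by
        intro w hw g hg
        have h1 : (w : G) ≠ 1 := fun h => hw (Subtype.ext h)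
        exact ⟨⟨g, hcc w w.2 h1 g hg⟩, rfl⟩ }
  have hA : ∀ w : U, w ≠ 1 → ∀ b : A, ¬ IsConj (U.subtype w) (b : G) := by
    intro w hw b hc
    have h1 : orderOf (U.subtype w) = orderOf (b : G) :=
      Cfsg.Agent.Lib.Basic.ConjCount.orderOf_eq_of_isConj hc
    have h2 : orderOf (w : G) ∣ Nat.card U := by
      rw [Subgroup.orderOf_coe]
      exact orderOf_dvd_natCard w
    have h3 : orderOf (b : G) ∣ Nat.card A := by
      rw [Subgroup.orderOf_coe]
      exact orderOf_dvd_natCard b
    rw [← h1] at h3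
    have h4 : orderOf (w : G) = 1 := Nat.eq_one_of_dvd_coprimes hcop h2 h3
    exact hw (Subtype.ext (orderOf_eq_one_iff.1 h4))
  have hcard' : Fintype.card A * Fintype.card U = Fintype.card G := by
    rw [← Nat.card_eq_fintype_card, ← Nat.card_eq_fintype_card, ← Nat.card_eq_fintype_card, ← hcard,
      mul_comm]
  exact conj_eq_abstract hZ hCC hA hcard' hyA hy1 (by rw [hcs, Nat.card_eq_fintype_card]) haA hac

end Cfsg.Agent.Lib.Rank3.CC3
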