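import Cfsg.Agent.Lib.Rank3.T2
import Cfsg.Agent.Lib.PSL2.ClassSizes
import Cfsg.Agent.Lib.PSL2.Overgroups

/-!
# Simple groups with three class sizes
-/

set_option autoImplicit false
set_option linter.unusedSectionVars false
set_option linter.style.haveILetI false

namespace Cfsg.Agent.Lib.Rank3.Main

open Subgroup Cfsg.Agent.Lib.ClassSize.Basic Cfsg.Agent.Lib.ClassSize.Coprime
  Cfsg.Agent.Lib.Basic.SylowUtil Cfsg.Agent.Lib.Rank3.Basic Cfsg.Agent.Lib.Rank3.T2
open scoped MatrixGroups

universe u

variable {G : Type u} [Group G] [Finite G]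

theorem center_eq_bot_of_simple [IsSimpleGroup G] (hna : ¬ IsMulCommutative G) : center G = ⊥ := by
  rcases IsSimpleGroup.eq_bot_or_eq_top_of_normal (center G) inferInstance with h | h
  · exact h
  · exfalso
    apply hna
    refine ⟨⟨fun a b => ?_⟩⟩
    have : a ∈ center G := by rw [h]; trivial
    exact (Subgroup.mem_center_iff.1 this b).symm

/-- The forward direction, given the character lemma. -/
theorem forward [IsSimpleGroup G] (hna : ¬ IsMulCommutative G) (hCL : CharLemma G)
    (hFT : Cfsg.Agent.Lib.Zass.EvenFT.FT G)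
    (hn : Set.ncard {m : ℕ | ∃ x : G, x ∉ center G ∧ m = (centralizer ({x} : Set G)).index} = 3) :
    ∃ (F : Type) (_ : Field F) (_ : Fintype F) (f : ℕ), 2 ≤ f ∧ Fintype.card F = 2 ^ f ∧
      Nonempty (G ≃* Matrix.ProjectiveSpecialLinearGroup (Fin 2) F) := by
  classical
  have hZ := center_eq_bot_of_simple hna
  apply psl_of_inv_cent_abelian hna hFT
  set S : Set ℕ := {m : ℕ | ∃ x : G, x ∉ center G ∧ m = (centralizer ({x} : Set G)).index} with hS
  have hSf : S.Finite := Set.finite_of_ncard_ne_zero (by omega)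
  have hmem : ∀ x : G, x ≠ 1 → cs x ∈ S := by
    intro x hx
    refine ⟨x, ?_, rfl⟩
    rw [hZ, Subgroup.mem_bot]
    exact hx
  have hmem' : ∀ m ∈ S, ∃ x : G, x ≠ 1 ∧ cs x = m := by
    rintro m ⟨x, hx, rfl⟩
    refine ⟨x, ?_, rfl⟩
    rintro rfl
    exact hx (one_mem _)
  have hgt1 : ∀ x : G, x ≠ 1 → 1 < cs x := by
    intro x hx
    have h1 : cs x ≠ 0 := Subgroup.index_ne_zero_of_finite
    have h2 : cs x ≠ 1 := by
      intro h
      have h3 : x ∈ center G := index_cent_eq_one_iff.1 h
      rw [hZ, Subgroup.mem_bot] at h3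
      exact hx h3
    omega
  by_cases hanti : ∀ x y : G, x ≠ 1 → y ≠ 1 → cs x ∣ cs y → cs y = cs x
  · refine inv_cent_abelian ?_
    intro t ht y hy hd
    refine hanti t y ?_ hy hd
    rintro rfl
    rw [orderOf_one] at ht
    omega
  · push Not at hanti
    obtain ⟨x, y, hx, hy, hd, hne⟩ := hanti
    -- the third size
    have hsub : ({cs x, cs y} : Set ℕ) ⊆ S := by
      intro m hm
      rcases hm with rfl | rfl
      · exact hmem x hx
      · exact hmem y hy
    have hcard : (S \ {cs x, cs y}).ncard = 1 := by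
      rw [Set.ncard_sdiff hsub (Set.toFinite _), hn, Set.ncard_pair (Ne.symm hne)]
    obtain ⟨v, hv⟩ := Set.ncard_eq_one.1 hcard
    have hvm : v ∈ S \ {cs x, cs y} := by
      rw [hv]
      exact Set.mem_singleton v
    obtain ⟨z, hz1, hzv⟩ := hmem' v hvm.1
    have hall : ∀ t : G, t ≠ 1 → cs t = cs x ∨ cs t = v ∨ cs t = cs y := by
      intro t ht
      by_cases h1 : cs t = cs x
      · exact Or.inl h1
      by_cases h2 : cs t = cs y
      · exact Or.inr (Or.inr h2)
      refine Or.inr (Or.inl ?_)
      have : cs t ∈ S \ {cs x, cs y} := ⟨hmem t ht, by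
        rintro (h3 | h3)
        · exact h1 h3
        · exact h2 h3⟩
      rw [hv] at this
      exact this
    have hcop : Nat.Coprime (cs x) v := by
      by_contra hnc
      obtain ⟨p, hp, hpx, hpv⟩ := Nat.Prime.not_coprime_iff_dvd.1 hnc
      haveI : Fact p.Prime := ⟨hp⟩
      obtain ⟨P⟩ : Nonempty (Sylow p G) := inferInstance
      obtain ⟨s, -, hs1, hle⟩ := exists_central_of_sylow P (hpx.trans (dvd_card_of_cs x))
      have hnd := not_dvd_cs_of_sylow_le P hle
      rcases hall s hs1 with h1 | h1 | h1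
      · rw [h1] at hnd
        exact hnd hpx
      · rw [h1] at hnd
        exact hnd hpv
      · rw [h1] at hnd
        exact hnd (hpx.trans hd)
    have hsz : Sizes G (cs x) v (cs y) :=
      { hs := hall
        huw := hd
        hne := Ne.symm hne
        hcop := hcop
        hu1 := hgt1 x hx
        hv1 := hzv ▸ hgt1 z hz1 }
    by_cases hb : v ∣ cs y
    · exfalso
      have hvne : v ≠ cs y := by
        intro h1
        rw [h1] at hcop
        have := Nat.Coprime.eq_one_of_dvd hcop hd
        have := hgt1 x hx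
        omega
      have hsz' : Sizes G v (cs x) (cs y) :=
        { hs := fun t ht => by
            rcases hall t ht with h1 | h1 | h1
            · exact Or.inr (Or.inl h1)
            · exact Or.inl h1
            · exact Or.inr (Or.inr h1)
          huw := hb
          hne := hvne
          hcop := hcop.symm
          hu1 := hsz.hv1
          hv1 := hsz.hu1 }
      exact no_case_a hsz hsz' hZ rfl hzv rfl
    · exact fun t ht => hsz.case_b hb hZ hCL hzv t ht

theorem index_cent_equiv {H : Type*} [Group H] (e : G ≃* H) (x : G) :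
    (centralizer ({e x} : Set H)).index = (centralizer ({x} : Set G)).index := by
  have h : centralizer ({e x} : Set H) = (centralizer ({x} : Set G)).map (e : G →* H) := by
    ext y
    rw [mem_centralizer_singleton_iff, Subgroup.mem_map]
    constructor
    · intro hy
      refine ⟨e.symm y, ?_, by simp⟩
      rw [mem_centralizer_singleton_iff]
      apply e.injective
      simp [hy]
    · rintro ⟨a, ha, rfl⟩
      rw [mem_centralizer_singleton_iff] at ha
      have := congrArg e ha
      simpa using this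
  rw [h]
  exact Subgroup.index_map_equiv _ e

theorem arith (q : ℕ) (h4 : 4 ≤ q) :
    q * (q - 1) ≠ q ^ 2 - 1 ∧ q * (q - 1) ≠ q * (q + 1) ∧ q ^ 2 - 1 ≠ q * (q + 1) := by
  obtain ⟨k, rfl⟩ : ∃ k, q = k + 2 := ⟨q - 2, by omega⟩
  have h6 : (k + 2) * (k + 2 - 1) = (k + 2) * (k + 1) := by simp
  have h7 : (k + 2) ^ 2 = (k + 2) * (k + 1) + (k + 1) + 1 := by ring
  have h8 : (k + 2) * (k + 2 + 1) = (k + 2) * (k + 1) + 2 * (k + 2) := by ring
  rw [h6, h8]
  have h9 : (k + 2) ^ 2 - 1 = (k + 2) * (k + 1) + (k + 1) := by omega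
  rw [h9]
  refine ⟨by omega, by omega, by omega⟩

/-- The converse direction. -/
theorem backward (f : ℕ) (F : Type) [Field F] [Fintype F] (hf : 2 ≤ f) (hc : Fintype.card F = 2 ^ f)
    (e : G ≃* Matrix.ProjectiveSpecialLinearGroup (Fin 2) F) :
    IsSimpleGroup G ∧ ¬ IsMulCommutative G ∧
      Set.ncard {m : ℕ | ∃ x : G, x ∉ center G ∧ m = (centralizer ({x} : Set G)).index} = 3 := by
  classical
  have h4 : 4 ≤ Fintype.card F := by
    rw [hc]
    calc 4 = 2 ^ 2 := by norm_num
      _ ≤ 2 ^ f := Nat.pow_le_pow_right (by norm_num) hf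
  have h2 : (2 : F) = 0 := by
    have h5 : ((Fintype.card F : ℕ) : F) = 0 := Nat.cast_card_eq_zero F
    rw [hc] at h5
    push_cast at h5
    exact pow_eq_zero_iff (by omega) |>.1 h5
  have hs : IsSimpleGroup PSL(2, F) := Matrix.ProjectiveSpecialLinearGroup.rank_two_simple (by
    rwa [Nat.card_eq_fintype_card])
  refine ⟨?_, ?_, ?_⟩
  · exact e.isSimpleGroup_congr.2 hs
  · rintro ⟨⟨h⟩⟩
    apply Cfsg.Agent.Lib.PSL2.Overgroups.not_comm_psl F
    intro a b
    apply e.symm.injective
    rw [map_mul, map_mul]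
    exact h _ _
  · set q := Fintype.card F with hq
    have hr := Cfsg.Agent.Lib.PSL2.ClassSizes.range_even h2 h4
    have hSeq : {m : ℕ | ∃ x : G, x ∉ center G ∧ m = (centralizer ({x} : Set G)).index} =
        {q * (q - 1), q ^ 2 - 1, q * (q + 1)} := by
      ext m
      simp only [Set.mem_ofPred_eq, Set.mem_insert_iff, Set.mem_singleton_iff]
      have hval : ∀ x : G, (centralizer ({x} : Set G)).index ∈ ({1, q * (q - 1), q ^ 2 - 1, q * (q + 1)} : Set ℕ) := by
        intro x
        rw [← hr, ← index_cent_equiv e x]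
        exact ⟨e x, rfl⟩
      have hne1 : q * (q - 1) ≠ 1 ∧ q ^ 2 - 1 ≠ 1 ∧ q * (q + 1) ≠ 1 := by
        refine ⟨?_, ?_, ?_⟩
        · have : 4 * 3 ≤ q * (q - 1) := Nat.mul_le_mul h4 (by omega)
          omega
        · have : 4 * 4 ≤ q ^ 2 := by rw [sq]; exact Nat.mul_le_mul h4 h4
          omega
        · have : 4 * 5 ≤ q * (q + 1) := Nat.mul_le_mul h4 (by omega)
          omega
      constructor
      · rintro ⟨x, hx, rfl⟩
        have h1 := hval x
        have h3 : (centralizer ({x} : Set G)).index ≠ 1 := fun h => hx (index_cent_eq_one_iff.1 h)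
        simp only [Set.mem_insert_iff, Set.mem_singleton_iff] at h1
        tauto
      · intro hm
        have hm' : m ∈ Set.range (fun g : PSL(2, F) => (centralizer ({g} : Set PSL(2, F))).index) := by
          rw [hr]
          simp only [Set.mem_insert_iff, Set.mem_singleton_iff]
          tauto
        obtain ⟨g, hg⟩ := hm'
        refine ⟨e.symm g, ?_, ?_⟩
        · intro hcen
          have h3 := index_cent_eq_one_iff.2 hcen
          rw [← index_cent_equiv e, e.apply_symm_apply] at h3
          have h5 : m = 1 := by rw [← hg]; exact h3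
          rw [h5] at hm
          rcases hm with h6 | h6 | h6
          · exact hne1.1 h6.symm
          · exact hne1.2.1 h6.symm
          · exact hne1.2.2 h6.symm
        · rw [← index_cent_equiv e, e.apply_symm_apply]
          exact hg.symm
    rw [hSeq]
    rw [Set.ncard_eq_three]
    refine ⟨_, _, _, ?_, ?_, ?_, rfl⟩
    · exact (arith q h4).1
    · exact (arith q h4).2.1
    · exact (arith q h4).2.2

end Cfsg.Agent.Lib.Rank3.Main
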